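import Mathlib

/-! # The invertible module attached to a unit Čech 1-cocycle: the presheaf. -/

set_option autoImplicit false
universe u
open CategoryTheory Limits AlgebraicGeometry TopologicalSpace Opposite

namespace Groth.Agent.H5.Glue

variable {X : Scheme.{u}}

/-- restriction of functions. -/
noncomputable abbrev res {U V : X.Opens} (h : V ≤ U) : Γ(X, U) →+* Γ(X, V) :=
  (X.presheaf.map (homOfLE h).op).hom

lemma res_res {U V W : X.Opens} (h₁ : V ≤ U) (h₂ : W ≤ V) (x : Γ(X, U)) :
    res h₂ (res h₁ x) = res (h₂.trans h₁) x := by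
  change (X.presheaf.map (homOfLE h₁).op ≫ X.presheaf.map (homOfLE h₂).op).hom x = _
  rw [← Functor.map_comp]
  rfl

lemma res_self {U : X.Opens} (x : Γ(X, U)) : res (le_refl U) x = x := by
  change (X.presheaf.map (𝟙 _)).hom x = x
  rw [X.presheaf.map_id]
  rfl

variable {ι : Type u} (U : ι → X.Opens) (η : ∀ i j : ι, Γ(X, U i ⊓ U j))

/-- the cocycle relation cut out by `η` on families of functions. -/
def IsSec (V : X.Opens) (f : ∀ i, Γ(X, V ⊓ U i)) : Prop :=
  ∀ i j, res (inf_le_inf_left V inf_le_right : V ⊓ (U i ⊓ U j) ≤ V ⊓ U j) (f j) =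
    res (inf_le_inf_left V inf_le_left : V ⊓ (U i ⊓ U j) ≤ V ⊓ U i) (f i) *
      res (inf_le_right : V ⊓ (U i ⊓ U j) ≤ U i ⊓ U j) (η i j)

/-- sections of the glued module over `V`. -/
def secs (V : X.Opens) : AddSubgroup (∀ i, Γ(X, V ⊓ U i)) where
  carrier := {f | IsSec U η V f}
  zero_mem' := by
    intro i j
    simp
  add_mem' := by
    intro f g hf hg i j
    have h1 := hf i j
    have h2 := hg i j
    simp only [Pi.add_apply, map_add, h1, h2, add_mul]
  neg_mem' := by
    intro f hf i j
    have h1 := hf i j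
    simp only [Pi.neg_apply, map_neg, h1, neg_mul]

noncomputable instance (V : X.Opens) : SMul Γ(X, V) (secs U η V) where
  smul r f := ⟨fun i => res (inf_le_left : V ⊓ U i ≤ V) r * f.1 i, by
    intro i j
    have h1 := f.2 i j
    simp only [map_mul, res_res, h1, mul_assoc]⟩

lemma smul_val (V : X.Opens) (r : Γ(X, V)) (f : secs U η V) (i : ι) :
    (r • f).1 i = res (inf_le_left : V ⊓ U i ≤ V) r * f.1 i := rfl

noncomputable instance (V : X.Opens) : Module Γ(X, V) (secs U η V) where
  one_smul f := by
    ext i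
    simp [smul_val]
  mul_smul r s f := by
    ext i
    simp [smul_val, mul_assoc]
  smul_zero r := by
    ext i
    simp [smul_val]
  smul_add r f g := by
    ext i
    simp [smul_val, mul_add]
  add_smul r s f := by
    ext i
    simp [smul_val, add_mul]
  zero_smul f := by
    ext i
    simp [smul_val]

/-- restriction of sections of the glued module. -/
noncomputable def secsRes {V V' : X.Opens} (h : V' ≤ V) : secs U η V →+ secs U η V' where
  toFun f := ⟨fun i => res (inf_le_inf_right (U i) h) (f.1 i), by
    intro i j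
    have h1 := congrArg (res (inf_le_inf_right (U i ⊓ U j) h :
      V' ⊓ (U i ⊓ U j) ≤ V ⊓ (U i ⊓ U j))) (f.2 i j)
    simp only [map_mul, res_res] at h1 ⊢
    exact h1⟩
  map_zero' := by
    ext i
    simp
  map_add' f g := by
    ext i
    simp

lemma secsRes_val {V V' : X.Opens} (h : V' ≤ V) (f : secs U η V) (i : ι) :
    (secsRes U η h f).1 i = res (inf_le_inf_right (U i) h) (f.1 i) := rfl

/-- the abelian presheaf of the glued module. -/
noncomputable def gluePresheaf : (Opens X)ᵒᵖ ⥤ Ab.{u} where
  obj V := AddCommGrpCat.of (secs U η V.unop)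
  map {V V'} f := AddCommGrpCat.ofHom (secsRes U η (leOfHom f.unop))
  map_id V := by
    ext f i
    exact res_self _
  map_comp {V₁ V₂ V₃} f g := by
    ext s i
    exact (res_res _ _ _).symm

end Groth.Agent.H5.Glue
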