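import Mathlib
import Groth.Agent.Lib.Helper5.Glue.A

/-! # The invertible module attached to a unit Čech 1-cocycle: presheaf of modules, sheaf. -/

set_option autoImplicit false
universe u
open CategoryTheory Limits AlgebraicGeometry TopologicalSpace Opposite

namespace Groth.Agent.H5.Glue

variable {X : Scheme.{u}} {ι : Type u} (U : ι → X.Opens) (η : ∀ i j : ι, Γ(X, U i ⊓ U j))

noncomputable instance glueModule (V : (Opens X)ᵒᵖ) :
    Module (X.ringCatSheaf.obj.obj V) ((gluePresheaf U η).obj V) :=
  inferInstanceAs (Module Γ(X, V.unop) (secs U η V.unop))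

/-- the presheaf of modules. -/
noncomputable def gluePre : X.PresheafOfModules :=
  PresheafOfModules.ofPresheaf (gluePresheaf U η) (by
    intro V V' f r m
    apply Subtype.ext
    funext i
    change res _ (res _ r * m.1 i) = res _ (res _ r) * res _ (m.1 i)
    rw [map_mul, res_res, res_res])

lemma gluePre_presheaf : (gluePre U η).presheaf = gluePresheaf U η := rfl

end Groth.Agent.H5.Glue
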