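import Mathlib
import Groth.Agent.Lib.Helper5.Glue.B

/-! # The invertible module attached to a unit Čech 1-cocycle: the sheaf condition. -/

set_option autoImplicit false
universe u
open CategoryTheory Limits AlgebraicGeometry TopologicalSpace Opposite

namespace Groth.Agent.H5.Glue

variable {X : Scheme.{u}}

lemma fn_ext_of_cover {κ : Type*} (W : κ → X.Opens) (T : X.Opens) (hWT : ∀ a, W a ≤ T)
    (hcov : T ≤ iSup W) (f f' : Γ(X, T)) (h : ∀ a, res (hWT a) f = res (hWT a) f') : f = f' :=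
  TopCat.Sheaf.eq_of_locally_eq' X.sheaf W T (fun a => homOfLE (hWT a)) hcov f f' h

lemma existsUnique_glue_fn {κ : Type*} (W : κ → X.Opens) (T : X.Opens) (hWT : ∀ a, W a ≤ T)
    (hcov : T ≤ iSup W) (g : ∀ a, Γ(X, W a))
    (hg : ∀ a b, res (inf_le_left : W a ⊓ W b ≤ W a) (g a) =
      res (inf_le_right : W a ⊓ W b ≤ W b) (g b)) :
    ∃! f : Γ(X, T), ∀ a, res (hWT a) f = g a :=
  TopCat.Sheaf.existsUnique_gluing' X.sheaf W T (fun a => homOfLE (hWT a)) hcov g hg

variable {ι : Type u} (U : ι → X.Opens) (η : ∀ i j : ι, Γ(X, U i ⊓ U j))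

theorem isSheaf_gluePresheaf : TopCat.Presheaf.IsSheaf (gluePresheaf U η) := by
  rw [TopCat.Presheaf.isSheaf_iff_isSheafUniqueGluing]
  intro κ V sf hsf
  -- reformulate compatibility
  have hsf' : ∀ a b i, res (inf_le_inf_right (U i) inf_le_left : (V a ⊓ V b) ⊓ U i ≤ V a ⊓ U i)
      ((sf a).1 i) = res (inf_le_inf_right (U i) inf_le_right : (V a ⊓ V b) ⊓ U i ≤ V b ⊓ U i)
      ((sf b).1 i) := by
    intro a b i
    exact congrFun (congrArg Subtype.val (hsf a b)) i
  -- glue componentwise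
  have hcovi : ∀ i, iSup V ⊓ U i ≤ ⨆ a, V a ⊓ U i := fun i => by rw [iSup_inf_eq]
  have hle : ∀ i a, V a ⊓ U i ≤ iSup V ⊓ U i := fun i a => inf_le_inf_right (U i) (le_iSup V a)
  have hglue : ∀ i, ∃! f : Γ(X, iSup V ⊓ U i), ∀ a, res (hle i a) f = (sf a).1 i := by
    intro i
    apply existsUnique_glue_fn (fun a => V a ⊓ U i) (iSup V ⊓ U i) (hle i) (hcovi i)
    intro a b
    have h1 := congrArg (res (le_inf (inf_le_inf inf_le_left inf_le_left)
      (inf_le_left.trans inf_le_right) : (V a ⊓ U i) ⊓ (V b ⊓ U i) ≤ (V a ⊓ V b) ⊓ U i))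
      (hsf' a b i)
    rw [res_res, res_res] at h1
    exact h1
  choose f hf hfuniq using hglue
  have hfsec : IsSec U η (iSup V) f := by
    intro i j
    apply fn_ext_of_cover (fun a => V a ⊓ (U i ⊓ U j)) (iSup V ⊓ (U i ⊓ U j))
      (fun a => inf_le_inf_right _ (le_iSup V a)) (by rw [iSup_inf_eq])
    intro a
    have h1 := (sf a).2 i j
    rw [← hf i a, ← hf j a, res_res, res_res] at h1
    rw [map_mul, res_res, res_res, res_res]
    exact h1
  refine ⟨⟨f, hfsec⟩, ?_, ?_⟩
  · intro a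
    apply Subtype.ext
    funext i
    exact hf i a
  · intro s hs
    apply Subtype.ext
    funext i
    apply hfuniq i
    intro a
    exact congrFun (congrArg Subtype.val (hs a)) i

/-- the glued module. -/
noncomputable def glueMod : X.Modules :=
  ⟨gluePre U η, isSheaf_gluePresheaf U η⟩

end Groth.Agent.H5.Glue
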