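import Mathlib
import Groth.Agent.Lib.Helper5.Glue.C
import Groth.Agent.Lib.Lead.QC.InvBasis

/-! # The invertible module attached to a unit Čech 1-cocycle: bases and transition functions. -/

set_option autoImplicit false
universe u
open CategoryTheory Limits AlgebraicGeometry TopologicalSpace Opposite

namespace Groth.Agent.H5.Glue

open Groth.Agent.LD.QC

variable {X : Scheme.{u}} {ι : Type u} (U : ι → X.Opens) (η : ∀ i j : ι, Γ(X, U i ⊓ U j))

/-- the cocycle identity. -/
def IsCocycle : Prop :=
  ∀ i j k : ι,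
    res (inf_le_inf_right (U k) inf_le_left : U i ⊓ U j ⊓ U k ≤ U i ⊓ U k) (η i k) =
      res (inf_le_left : U i ⊓ U j ⊓ U k ≤ U i ⊓ U j) (η i j) *
        res (inf_le_inf_right (U k) inf_le_right : U i ⊓ U j ⊓ U k ≤ U j ⊓ U k) (η j k)

variable {U η}

lemma IsCocycle.self_eq_one (hη : IsCocycle U η) (i : ι) (hu : IsUnit (η i i)) : η i i = 1 := by
  have h1 := congrArg (res (le_inf le_rfl inf_le_left : U i ⊓ U i ≤ U i ⊓ U i ⊓ U i)) (hη i i i)
  simp only [map_mul, res_res] at h1
  have h2 : η i i = η i i * η i i := by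
    have e1 : res (le_refl (U i ⊓ U i)) (η i i) = η i i := res_self _
    calc η i i = res (le_refl (U i ⊓ U i)) (η i i) := e1.symm
      _ = res (le_refl (U i ⊓ U i)) (η i i) * res (le_refl (U i ⊓ U i)) (η i i) := h1
      _ = η i i * η i i := by rw [e1]
  obtain ⟨u, hu⟩ := hu
  rw [← hu] at h2 ⊢
  have h3 : (u : Γ(X, U i ⊓ U i)) * 1 = u * u := by rw [mul_one]; exact h2
  exact (u.isUnit.mul_left_cancel h3).symm

/-- the local generator of the glued module over `U i`. -/
noncomputable def glueSec (hη : IsCocycle U η) (i : ι) : secs U η (U i) :=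
  ⟨fun j => η i j, by
    intro j k
    have h1 := congrArg (res (le_inf (le_inf inf_le_left (inf_le_right.trans inf_le_left))
      (inf_le_right.trans inf_le_right) : U i ⊓ (U j ⊓ U k) ≤ U i ⊓ U j ⊓ U k)) (hη i j k)
    rw [map_mul, res_res, res_res, res_res] at h1
    exact h1⟩

/-- the local generator as a section of the glued module. -/
noncomputable def glueGen (hη : IsCocycle U η) (i : ι) : Γ(glueMod U η, U i) := glueSec hη i

lemma glueGen_transition (hη : IsCocycle U η) (i j : ι) :
    (glueMod U η).presheaf.map (homOfLE (inf_le_left : U i ⊓ U j ≤ U i)).op (glueGen hη i) =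
      (η i j : Γ(X, U i ⊓ U j)) •
        (glueMod U η).presheaf.map (homOfLE (inf_le_right : U i ⊓ U j ≤ U j)).op (glueGen hη j) := by
  apply Subtype.ext
  funext k
  exact hη i j k

theorem isBasisOver_glueGen (hη : IsCocycle U η) (hu : ∀ i, IsUnit (η i i)) (i : ι) :
    IsBasisOver (glueMod U η) (U i) (glueGen hη i) := by
  intro V h
  have hii := hη.self_eq_one i (hu i)
  constructor
  · intro r r' hrr
    have h1 : res (inf_le_left : V ⊓ U i ≤ V) r * res (inf_le_inf_right (U i) h) (η i i) =
        res (inf_le_left : V ⊓ U i ≤ V) r' * res (inf_le_inf_right (U i) h) (η i i) :=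
      congrFun (congrArg Subtype.val hrr) i
    rw [hii, map_one, mul_one, mul_one] at h1
    have h2 := congrArg (res (le_inf le_rfl h : V ≤ V ⊓ U i)) h1
    rw [res_res, res_res] at h2
    exact (res_self r).symm.trans (h2.trans (res_self r'))
  · intro (t' : secs U η V)
    refine ⟨res (le_inf le_rfl h : V ≤ V ⊓ U i) (t'.1 i), ?_⟩
    apply Subtype.ext
    funext j
    change res (inf_le_left : V ⊓ U j ≤ V) (res (le_inf le_rfl h : V ≤ V ⊓ U i) (t'.1 i)) *
      res (inf_le_inf_right (U j) h) (η i j) = t'.1 j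
    have h1 := congrArg (res (le_inf inf_le_left (le_inf (inf_le_left.trans h) inf_le_right) :
      V ⊓ U j ≤ V ⊓ (U i ⊓ U j))) (t'.2 i j)
    rw [map_mul, res_res, res_res, res_res] at h1
    rw [res_res]
    exact h1.symm.trans (res_self _)

theorem isInvertible_glueMod (hη : IsCocycle U η) (hu : ∀ i, IsUnit (η i i)) (hU : iSup U = ⊤) :
    PicF.IsInvertible (glueMod U η) := by
  rw [isInvertible_iff_exists_isBasisOver]
  intro x
  have hx : x ∈ iSup U := by rw [hU]; trivial
  obtain ⟨i, hi⟩ := Opens.mem_iSup.mp hx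
  exact ⟨U i, glueGen hη i, hi, isBasisOver_glueGen hη hu i⟩

end Groth.Agent.H5.Glue
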