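import Mathlib
import Groth.Agent.Lib.Helper5.Glue.D
import Groth.Agent.Lib.Lead.QC.AmpleBase

/-! # The transition cocycle of an invertible module with respect to local bases. -/

set_option autoImplicit false
universe u
open CategoryTheory Limits AlgebraicGeometry TopologicalSpace Opposite

namespace Groth.Agent.H5.Glue

open Groth.Agent.LD

variable {X : Scheme.{u}}

/-- restriction of sections of a module. -/
noncomputable abbrev mres (M : X.Modules) {U V : X.Opens} (h : V ≤ U) (s : Γ(M, U)) : Γ(M, V) :=
  M.presheaf.map (homOfLE h).op s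

lemma mres_mres (M : X.Modules) {U V W : X.Opens} (h₁ : V ≤ U) (h₂ : W ≤ V) (s : Γ(M, U)) :
    mres M h₂ (mres M h₁ s) = mres M (h₂.trans h₁) s := QC.res_res M h₁ h₂ s

lemma mres_self (M : X.Modules) {U : X.Opens} (s : Γ(M, U)) : mres M (le_refl U) s = s :=
  QC.res_self M _ s

lemma mres_smul (M : X.Modules) {U V : X.Opens} (h : V ≤ U) (r : Γ(X, U)) (s : Γ(M, U)) :
    mres M h (r • s) = res h r • mres M h s :=
  Scheme.Modules.map_smul M (homOfLE h) r s

variable {ι : Type u} {U : ι → X.Opens} {L : X.Modules} {e : ∀ i, Γ(L, U i)}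

/-- transition functions between local bases exist and are units. -/
lemma exists_transition (he : ∀ i, QC.IsBasisOver L (U i) (e i)) (i j : ι) :
    ∃ η : Γ(X, U i ⊓ U j), IsUnit η ∧
      mres L (inf_le_left : U i ⊓ U j ≤ U i) (e i) =
        η • mres L (inf_le_right : U i ⊓ U j ≤ U j) (e j) := by
  have hj := (he j).mono (inf_le_right : U i ⊓ U j ≤ U j)
  have hi := (he i).mono (inf_le_left : U i ⊓ U j ≤ U i)
  obtain ⟨η, hη⟩ := hj.exists_coord (mres L (inf_le_left : U i ⊓ U j ≤ U i) (e i))
  refine ⟨η, ?_, hη⟩
  rw [← hj.smul_iff η]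
  have : η • L.presheaf.map (homOfLE (inf_le_right : U i ⊓ U j ≤ U j)).op (e j) =
      L.presheaf.map (homOfLE (inf_le_left : U i ⊓ U j ≤ U i)).op (e i) := hη.symm
  rw [this]
  exact hi

/-- a choice of transition functions. -/
noncomputable def transition (he : ∀ i, QC.IsBasisOver L (U i) (e i)) (i j : ι) :
    Γ(X, U i ⊓ U j) := (exists_transition he i j).choose

lemma isUnit_transition (he : ∀ i, QC.IsBasisOver L (U i) (e i)) (i j : ι) :
    IsUnit (transition he i j) := (exists_transition he i j).choose_spec.1

lemma transition_spec (he : ∀ i, QC.IsBasisOver L (U i) (e i)) (i j : ι) :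
    mres L (inf_le_left : U i ⊓ U j ≤ U i) (e i) =
      transition he i j • mres L (inf_le_right : U i ⊓ U j ≤ U j) (e j) :=
  (exists_transition he i j).choose_spec.2

/-- the transition functions form a cocycle. -/
theorem isCocycle_transition (he : ∀ i, QC.IsBasisOver L (U i) (e i)) :
    IsCocycle U (transition he) := by
  intro i j k
  set T := U i ⊓ U j ⊓ U k with hT
  have hik : T ≤ U i ⊓ U k := inf_le_inf_right (U k) inf_le_left
  have hij : T ≤ U i ⊓ U j := inf_le_left
  have hjk : T ≤ U j ⊓ U k := inf_le_inf_right (U k) inf_le_right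
  have hkT : T ≤ U k := inf_le_right
  have hbk := (he k).mono hkT
  apply hbk.coord_injective
  have e1 := congrArg (mres L hik) (transition_spec he i k)
  have e2 := congrArg (mres L hij) (transition_spec he i j)
  have e3 := congrArg (mres L hjk) (transition_spec he j k)
  rw [mres_smul, mres_mres, mres_mres] at e1 e2 e3
  change res hik (transition he i k) • mres L hkT (e k) =
    (res hij (transition he i j) * res hjk (transition he j k)) • mres L hkT (e k)
  rw [mul_smul]
  exact e1.symm.trans (e2.trans (congrArg (fun z => res hij (transition he i j) • z) e3))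

end Groth.Agent.H5.Glue
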