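import Mathlib
import Groth.Agent.Lib.Helper5.Glue.E
import Groth.Agent.Lib.Lead.QC.AmpleBasis
import Groth.Agent.Lib.Lead.QC.SheafIso

/-! # Existence of inverses of invertible modules. -/

set_option autoImplicit false
universe u
open CategoryTheory Limits AlgebraicGeometry TopologicalSpace Opposite

namespace Groth.Agent.H5.Glue

open Groth.Agent.LD

variable {X : Scheme.{u}}

/-- a section generating everywhere is an isomorphism. -/
lemma isIso_of_genLocus_eq_top {L : X.Modules} (s : QC.unitMod X ⟶ L)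
    (h : CohB1.genLocus L s = ⊤) : IsIso s := by
  apply QC.isIso_of_local_bijective
  intro x W hxW
  refine ⟨W, hxW, le_rfl, ?_⟩
  exact (QC.le_genLocus_iff L s ⊤).mp h.ge W le_top

/-- gluing sections of a module over a cover of `X`. -/
lemma existsUnique_glue_sec (M : X.Modules) {ι : Type u} (U : ι → X.Opens) (hU : iSup U = ⊤)
    (τ : ∀ i, Γ(M, U i))
    (hτ : ∀ i j, mres M (inf_le_left : U i ⊓ U j ≤ U i) (τ i) =
      mres M (inf_le_right : U i ⊓ U j ≤ U j) (τ j)) :
    ∃! σ : Γ(M, ⊤), ∀ i, mres M (le_top : U i ≤ ⊤) σ = τ i :=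
  TopCat.Sheaf.existsUnique_gluing' (⟨M.presheaf, M.isSheaf⟩ : TopCat.Sheaf Ab X) U ⊤
    (fun i => homOfLE le_top) (hU ▸ le_rfl) τ hτ

variable {ι : Type u} {U : ι → X.Opens}

/-- two modules with local bases over the same cover whose transition functions are mutually
inverse are inverse to each other. -/
theorem nonempty_tensor_iso_unit {L L' : X.Modules} (hU : iSup U = ⊤)
    {e : ∀ i, Γ(L, U i)} {e' : ∀ i, Γ(L', U i)}
    (he : ∀ i, QC.IsBasisOver L (U i) (e i)) (he' : ∀ i, QC.IsBasisOver L' (U i) (e' i))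
    (η η' : ∀ i j, Γ(X, U i ⊓ U j))
    (hη : ∀ i j, mres L (inf_le_left : U i ⊓ U j ≤ U i) (e i) =
      η i j • mres L (inf_le_right : U i ⊓ U j ≤ U j) (e j))
    (hη' : ∀ i j, mres L' (inf_le_left : U i ⊓ U j ≤ U i) (e' i) =
      η' i j • mres L' (inf_le_right : U i ⊓ U j ≤ U j) (e' j))
    (hinv : ∀ i j, η i j * η' i j = 1) :
    Nonempty (CohB1.tensorMod L L' ≅ QC.unitMod X) := by
  let τ : ∀ i, Γ(CohB1.tensorMod L L', U i) := fun i => SecTwist.tmul L L' (U i) (e i) (e' i)
  have hτ : ∀ i j, mres (CohB1.tensorMod L L') (inf_le_left : U i ⊓ U j ≤ U i) (τ i) =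
      mres (CohB1.tensorMod L L') (inf_le_right : U i ⊓ U j ≤ U j) (τ j) := by
    intro i j
    have h1 : mres (CohB1.tensorMod L L') (inf_le_left : U i ⊓ U j ≤ U i) (τ i) =
        SecTwist.tmul L L' (U i ⊓ U j) (mres L inf_le_left (e i)) (mres L' inf_le_left (e' i)) :=
      QC.tmul_res L L' _ _ _
    have h2 : mres (CohB1.tensorMod L L') (inf_le_right : U i ⊓ U j ≤ U j) (τ j) =
        SecTwist.tmul L L' (U i ⊓ U j) (mres L inf_le_right (e j)) (mres L' inf_le_right (e' j)) :=
      QC.tmul_res L L' _ _ _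
    rw [h1, h2, hη i j, hη' i j, QC.tmul_smul_left, QC.tmul_smul_right, smul_smul, hinv i j,
      one_smul]
  obtain ⟨σ, hσ, -⟩ := existsUnique_glue_sec (CohB1.tensorMod L L') U hU τ hτ
  let s : QC.unitMod X ⟶ CohB1.tensorMod L L' := QC.homOfSection _ σ
  have hle : ∀ i, U i ≤ CohB1.genLocus _ s := by
    intro i
    rw [QC.le_genLocus_iff_isBasisOver]
    have h1 : SecTwist.val s (U i) = τ i := (QC.val_homOfSection _ σ (U i)).trans (hσ i)
    rw [h1]
    exact (he i).tmul (he' i)
  have htop : CohB1.genLocus _ s = ⊤ := by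
    rw [eq_top_iff, ← hU]
    exact iSup_le hle
  haveI := isIso_of_genLocus_eq_top s htop
  exact ⟨(asIso s).symm⟩

/-- **existence of inverses**: every invertible module has an invertible inverse. -/
theorem exists_inverse (L : X.Modules) (hL : PicF.IsInvertible L) :
    ∃ L' : X.Modules, PicF.IsInvertible L' ∧ Nonempty (CohB1.tensorMod L L' ≅ QC.unitMod X) := by
  have h := (QC.isInvertible_iff_exists_isBasisOver L).mp hL
  choose U e hxU he using h
  have hU : iSup U = ⊤ := by
    rw [eq_top_iff]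
    intro x _
    exact Opens.mem_iSup.mpr ⟨x, hxU x⟩
  -- the inverse cocycle
  let ηu : ∀ i j, (Γ(X, U i ⊓ U j))ˣ := fun i j => (isUnit_transition he i j).unit
  let η' : ∀ i j, Γ(X, U i ⊓ U j) := fun i j => ((ηu i j)⁻¹ : (Γ(X, U i ⊓ U j))ˣ)
  have hmul : ∀ i j, transition he i j * η' i j = 1 := fun i j => (ηu i j).mul_inv
  have hc' : IsCocycle U η' := by
    intro i j k
    have hc := isCocycle_transition he i j k
    have a1 := congrArg (res (inf_le_inf_right (U k) inf_le_left : U i ⊓ U j ⊓ U k ≤ U i ⊓ U k))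
      (hmul i k)
    have a2 := congrArg (res (inf_le_left : U i ⊓ U j ⊓ U k ≤ U i ⊓ U j)) (hmul i j)
    have a3 := congrArg (res (inf_le_inf_right (U k) inf_le_right : U i ⊓ U j ⊓ U k ≤ U j ⊓ U k))
      (hmul j k)
    rw [map_mul, map_one] at a1 a2 a3
    rw [hc] at a1
    generalize res _ (η' i k) = a' at a1 ⊢
    generalize res _ (η' i j) = b' at a2 ⊢
    generalize res _ (η' j k) = c' at a3 ⊢
    generalize res _ (transition he i j) = b at a1 a2
    generalize res _ (transition he j k) = c at a1 a3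
    calc a' = a' * (b * b') * (c * c') := by rw [a2, a3, mul_one, mul_one]
      _ = (b * c * a') * (b' * c') := by ring
      _ = b' * c' := by rw [a1, one_mul]
  have hu' : ∀ i, IsUnit (η' i i) := fun i => ((ηu i i)⁻¹).isUnit
  refine ⟨glueMod U η', isInvertible_glueMod hc' hu' hU, ?_⟩
  exact nonempty_tensor_iso_unit hU he (isBasisOver_glueGen hc' hu') (transition he) η'
    (transition_spec he) (glueGen_transition hc') hmul

end Groth.Agent.H5.Glue
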