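import Mathlib
import Groth.Agent.Lib.Helper5.Glue.F
import Groth.Agent.Lib.Lead.QC.InvInverse
import Groth.Agent.Lib.Lead.QC.TensorDesc
import Groth.Agent.Lib.Lead.QC.TensorPow

/-! # Modules with the same transition functions are isomorphic. -/

set_option autoImplicit false
universe u
open CategoryTheory Limits AlgebraicGeometry TopologicalSpace Opposite

namespace Groth.Agent.H5.Glue

open Groth.Agent.LD

variable {X : Scheme.{u}} {ι : Type u} {U : ι → X.Opens}

lemma transition_unique {L : X.Modules} {e : ∀ i, Γ(L, U i)}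
    (he : ∀ i, QC.IsBasisOver L (U i) (e i)) (i j : ι) (η : Γ(X, U i ⊓ U j))
    (h : mres L (inf_le_left : U i ⊓ U j ≤ U i) (e i) =
      η • mres L (inf_le_right : U i ⊓ U j ≤ U j) (e j)) : η = transition he i j := by
  apply ((he j).mono (inf_le_right : U i ⊓ U j ≤ U j)).coord_injective
  exact h.symm.trans (transition_spec he i j)

/-- the inverse cocycle. -/
noncomputable def invCocycle {L : X.Modules} {e : ∀ i, Γ(L, U i)}
    (he : ∀ i, QC.IsBasisOver L (U i) (e i)) (i j : ι) : Γ(X, U i ⊓ U j) :=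
  (((isUnit_transition he i j).unit)⁻¹ : (Γ(X, U i ⊓ U j))ˣ)

lemma transition_mul_invCocycle {L : X.Modules} {e : ∀ i, Γ(L, U i)}
    (he : ∀ i, QC.IsBasisOver L (U i) (e i)) (i j : ι) :
    transition he i j * invCocycle he i j = 1 :=
  ((isUnit_transition he i j).unit).mul_inv

lemma isUnit_invCocycle {L : X.Modules} {e : ∀ i, Γ(L, U i)}
    (he : ∀ i, QC.IsBasisOver L (U i) (e i)) (i j : ι) : IsUnit (invCocycle he i j) :=
  (((isUnit_transition he i j).unit)⁻¹).isUnit

theorem isCocycle_invCocycle {L : X.Modules} {e : ∀ i, Γ(L, U i)}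
    (he : ∀ i, QC.IsBasisOver L (U i) (e i)) : IsCocycle U (invCocycle he) := by
  intro i j k
  have hmul := transition_mul_invCocycle he
  have hc := isCocycle_transition he i j k
  have a1 := congrArg (res (inf_le_inf_right (U k) inf_le_left : U i ⊓ U j ⊓ U k ≤ U i ⊓ U k))
    (hmul i k)
  have a2 := congrArg (res (inf_le_left : U i ⊓ U j ⊓ U k ≤ U i ⊓ U j)) (hmul i j)
  have a3 := congrArg (res (inf_le_inf_right (U k) inf_le_right : U i ⊓ U j ⊓ U k ≤ U j ⊓ U k))
    (hmul j k)
  rw [map_mul, map_one] at a1 a2 a3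
  rw [hc] at a1
  generalize res _ (invCocycle he i k) = a' at a1 ⊢
  generalize res _ (invCocycle he i j) = b' at a2 ⊢
  generalize res _ (invCocycle he j k) = c' at a3 ⊢
  generalize res _ (transition he i j) = b at a1 a2
  generalize res _ (transition he j k) = c at a1 a3
  calc a' = a' * (b * b') * (c * c') := by rw [a2, a3, mul_one, mul_one]
    _ = (b * c * a') * (b' * c') := by ring
    _ = b' * c' := by rw [a1, one_mul]

/-- the explicit inverse module attached to local bases. -/
noncomputable def invMod {L : X.Modules} {e : ∀ i, Γ(L, U i)}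
    (he : ∀ i, QC.IsBasisOver L (U i) (e i)) : X.Modules := glueMod U (invCocycle he)

theorem isInvertible_invMod {L : X.Modules} {e : ∀ i, Γ(L, U i)}
    (he : ∀ i, QC.IsBasisOver L (U i) (e i)) (hU : iSup U = ⊤) :
    PicF.IsInvertible (invMod he) :=
  isInvertible_glueMod (isCocycle_invCocycle he) (fun i => isUnit_invCocycle he i i) hU

/-- any module with local bases having the same transition functions as `L` is inverse to
`invMod`. -/
theorem nonempty_tensor_invMod_iso {L L' : X.Modules} {e : ∀ i, Γ(L, U i)}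
    (he : ∀ i, QC.IsBasisOver L (U i) (e i)) (hU : iSup U = ⊤) {e' : ∀ i, Γ(L', U i)}
    (he' : ∀ i, QC.IsBasisOver L' (U i) (e' i))
    (h : ∀ i j, mres L' (inf_le_left : U i ⊓ U j ≤ U i) (e' i) =
      transition he i j • mres L' (inf_le_right : U i ⊓ U j ≤ U j) (e' j)) :
    Nonempty (CohB1.tensorMod L' (invMod he) ≅ QC.unitMod X) :=
  nonempty_tensor_iso_unit hU he'
    (isBasisOver_glueGen (isCocycle_invCocycle he) (fun i => isUnit_invCocycle he i i))
    (transition he) (invCocycle he) h (glueGen_transition (isCocycle_invCocycle he))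
    (transition_mul_invCocycle he)

lemma isInvertible_of_bases {L : X.Modules} {e : ∀ i, Γ(L, U i)}
    (he : ∀ i, QC.IsBasisOver L (U i) (e i)) (hU : iSup U = ⊤) : PicF.IsInvertible L := by
  rw [QC.isInvertible_iff_exists_isBasisOver]
  intro x
  have hx : x ∈ iSup U := by rw [hU]; trivial
  obtain ⟨i, hi⟩ := Opens.mem_iSup.mp hx
  exact ⟨U i, e i, hi, he i⟩

/-- **modules with local bases over a common cover and the same transition functions are
isomorphic**. -/
theorem nonempty_iso_of_same_transition {L L' : X.Modules} (hU : iSup U = ⊤)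
    {e : ∀ i, Γ(L, U i)} {e' : ∀ i, Γ(L', U i)}
    (he : ∀ i, QC.IsBasisOver L (U i) (e i)) (he' : ∀ i, QC.IsBasisOver L' (U i) (e' i))
    (η : ∀ i j, Γ(X, U i ⊓ U j))
    (hη : ∀ i j, mres L (inf_le_left : U i ⊓ U j ≤ U i) (e i) =
      η i j • mres L (inf_le_right : U i ⊓ U j ≤ U j) (e j))
    (hη' : ∀ i j, mres L' (inf_le_left : U i ⊓ U j ≤ U i) (e' i) =
      η i j • mres L' (inf_le_right : U i ⊓ U j ≤ U j) (e' j)) :
    Nonempty (L ≅ L') := by
  have hηt : ∀ i j, η i j = transition he i j := fun i j => transition_unique he i j _ (hη i j)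
  obtain ⟨ε⟩ := nonempty_tensor_invMod_iso he hU he (transition_spec he)
  obtain ⟨ε'⟩ := nonempty_tensor_invMod_iso he hU he' (fun i j => by rw [← hηt]; exact hη' i j)
  have hL := isInvertible_of_bases he hU
  have hL' := isInvertible_of_bases he' hU
  have hQ := isInvertible_invMod he hU
  haveI : L.IsQuasicoherent := QC.qc_of_isInvertible L hL
  haveI : L'.IsQuasicoherent := QC.qc_of_isInvertible L' hL'
  haveI : (invMod he).IsQuasicoherent := QC.qc_of_isInvertible _ hQ
  -- L ≅ L ⊗ O ≅ L ⊗ (Q ⊗ L') ≅ (L ⊗ Q) ⊗ L' ≅ O ⊗ L' ≅ L'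
  exact ⟨(SecTwist.unitorR L).symm ≪≫
    QC.tensorIso' (Iso.refl L) (ε'.symm ≪≫ QC.tensorCommGen L' (invMod he)) ≪≫
    (QC.tensorAssoc L (invMod he) L').symm ≪≫
    QC.tensorIso' ε (Iso.refl L') ≪≫ QC.unitorL L'⟩

end Groth.Agent.H5.Glue
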