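import Mathlib

set_option autoImplicit false
universe u
open CategoryTheory Limits AlgebraicGeometry TopologicalSpace Opposite

namespace Groth.Agent.H5.Glue

/-- if `f` is an isomorphism over the open `V`, then `f.app W` is bijective for `W ≤ V`. -/
theorem app_bijective_of_isIso_restrict {X Y : Scheme.{u}} (f : X ⟶ Y) (V : Y.Opens)
    [hV : IsIso (f ∣_ V)] (W : Y.Opens) (hW : W ≤ V) :
    Function.Bijective (f.app W).hom := by
  have h1 : IsIso ((f ∣_ V).app (V.ι ⁻¹ᵁ W)) := inferInstance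
  rw [morphismRestrict_app] at h1
  have h2 : IsIso (f.app (V.ι ''ᵁ V.ι ⁻¹ᵁ W)) := by
    have hg : IsIso (X.presheaf.map
        (eqToHom (image_morphismRestrict_preimage f V (V.ι ⁻¹ᵁ W))).op) := inferInstance
    exact @IsIso.of_isIso_comp_right _ _ _ _ _ _ _ hg h1
  have h3 : V.ι ''ᵁ V.ι ⁻¹ᵁ W = W := by
    rw [Scheme.Hom.image_preimage_eq_opensRange_inf, Scheme.Opens.opensRange_ι]
    exact inf_eq_right.mpr hW
  rw [h3] at h2
  exact (ConcreteCategory.isIso_iff_bijective (f.app W)).mp h2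

end Groth.Agent.H5.Glue
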