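import Mathlib
import Groth.Agent.Lib.Helper5.Glue.G
import Groth.Agent.Lib.Helper5.Glue.P1
import Groth.Agent.Lib.Lead.QC.FiniteFree
import Groth.Agent.Lib.Lead.QC.PullInv

/-! # Descending invertible modules along a finite morphism which is an isomorphism outside a
discrete set (S1552). -/

set_option autoImplicit false
universe u
open CategoryTheory Limits AlgebraicGeometry TopologicalSpace Opposite

namespace Groth.Agent.H5.Glue

open Groth.Agent.LD

variable {X Y : Scheme.{u}} (f : X ⟶ Y)

lemma appLE_res_left {A A' : Y.Opens} {B : X.Opens} (hA : A' ≤ A) (e' : B ≤ f ⁻¹ᵁ A')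
    (r : Γ(Y, A)) :
    (f.appLE A' B e').hom (res hA r) =
      (f.appLE A B (e'.trans (fun _ h => hA h))).hom r := by
  have := f.map_appLE e' (homOfLE hA).op
  exact congr($this r)

lemma res_appLE {A : Y.Opens} {B B' : X.Opens} (hB : B' ≤ B) (e : B ≤ f ⁻¹ᵁ A) (r : Γ(Y, A)) :
    res hB ((f.appLE A B e).hom r) = (f.appLE A B' (hB.trans e)).hom r := by
  have := f.appLE_map e (homOfLE hB).op
  exact congr($this r)

lemma appLE_bijective_of_isIso_restrict (V : Y.Opens) [IsIso (f ∣_ V)] (A : Y.Opens)
    (hA : A ≤ V) (B : X.Opens) (hB : B = f ⁻¹ᵁ A) :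
    Function.Bijective (f.appLE A B hB.le).hom := by
  subst hB
  rw [Scheme.Hom.appLE_eq_app]
  exact app_bijective_of_isIso_restrict f V A hA

end Groth.Agent.H5.Glue
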