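import Mathlib
import Groth.Agent.Lib.Helper5.Glue.P2

/-! # S1552: main construction. -/

set_option autoImplicit false
universe u
open CategoryTheory Limits AlgebraicGeometry TopologicalSpace Opposite

namespace Groth.Agent.H5.Glue

open Groth.Agent.LD

variable {X Y : Scheme.{u}} (f : X ⟶ Y)

/-- local data: neighbourhoods `W y` meeting the complement of `V` at most in `y`, over whose
preimages `L` has a basis. -/
lemma exists_local_data [IsFinite f] (V : Y.Opens)
    (hdisc : DiscreteTopology ((V : Set Y)ᶜ : Set Y))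
    (L : X.Modules) (hL : PicF.IsInvertible L) (y : Y) :
    ∃ W : Y.Opens, y ∈ W ∧ (∀ z ∈ W, z ∉ V → z = y) ∧ (y ∈ V → W ≤ V) ∧
      ∃ e : Γ(L, f ⁻¹ᵁ W), QC.IsBasisOver L (f ⁻¹ᵁ W) e := by
  obtain ⟨W', hyW', ⟨φ⟩⟩ := QC.exists_trivial_preimage_of_isFinite f L hL y
  have hb := QC.isBasisOver_basisOfIso L (f ⁻¹ᵁ W') φ.symm
  by_cases hyV : y ∈ V
  · refine ⟨W' ⊓ V, ⟨hyW', hyV⟩, fun z hz hzV => absurd hz.2 hzV, fun _ => inf_le_right, ?_⟩
    have hle : f ⁻¹ᵁ (W' ⊓ V) ≤ f ⁻¹ᵁ W' := fun _ h => h.1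
    exact ⟨_, hb.mono hle⟩
  · have hopen : IsOpen ({⟨y, hyV⟩} : Set ((V : Set Y)ᶜ : Set Y)) := isOpen_discrete _
    obtain ⟨O, hO, hOeq⟩ := isOpen_induced_iff.mp hopen
    have hyO : y ∈ O := by
      have : (⟨y, hyV⟩ : ((V : Set Y)ᶜ : Set Y)) ∈ Subtype.val ⁻¹' O := by
        rw [hOeq]; exact Set.mem_singleton _
      exact this
    refine ⟨W' ⊓ ⟨O, hO⟩, ⟨hyW', hyO⟩, ?_, fun h => absurd h hyV, ?_⟩
    · intro z hz hzV
      have : (⟨z, hzV⟩ : ((V : Set Y)ᶜ : Set Y)) ∈ Subtype.val ⁻¹' O := hz.2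
      rw [hOeq] at this
      exact congrArg Subtype.val (Set.mem_singleton_iff.mp this)
    · have hle : f ⁻¹ᵁ (W' ⊓ ⟨O, hO⟩) ≤ f ⁻¹ᵁ W' := fun _ h => h.1
      exact ⟨_, hb.mono hle⟩

theorem exists_invertible_pullback_iso [IsFinite f] (V : Y.Opens) (hV : IsIso (f ∣_ V))
    (hdisc : DiscreteTopology ((V : Set Y)ᶜ : Set Y))
    (L : X.Modules) (hL : PicF.IsInvertible L) :
    ∃ N : Y.Modules, PicF.IsInvertible N ∧
      Nonempty ((Scheme.Modules.pullback f).obj N ≅ L) := by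
  classical
  choose W hyW hW1 hW2 e he using exists_local_data f V hdisc L hL
  have hWV : ∀ y y', y ≠ y' → W y ⊓ W y' ≤ V := by
    intro y y' hne z hz
    by_contra hzV
    exact hne ((hW1 y z hz.1 hzV).symm.trans (hW1 y' z hz.2 hzV))
  let U' : Y → X.Opens := fun y => f ⁻¹ᵁ W y
  have hU' : iSup U' = ⊤ := by
    rw [eq_top_iff]
    intro x _
    exact Opens.mem_iSup.mpr ⟨f x, hyW (f x)⟩
  have hcW : iSup W = ⊤ := by
    rw [eq_top_iff]
    intro y _
    exact Opens.mem_iSup.mpr ⟨y, hyW y⟩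
  -- transition functions of `L`
  let θ := transition he
  have hθc : IsCocycle U' θ := isCocycle_transition he
  have hθ1 : ∀ y, θ y y = 1 := fun y => hθc.self_eq_one y (isUnit_transition he y y)
  -- comparison maps
  have hpre : ∀ y y', U' y ⊓ U' y' ≤ f ⁻¹ᵁ (W y ⊓ W y') := fun y y' _ h => h
  have hbij : ∀ y y', y ≠ y' →
      Function.Bijective (f.appLE (W y ⊓ W y') (U' y ⊓ U' y') (hpre y y')).hom := by
    intro y y' hne
    exact appLE_bijective_of_isIso_restrict f V _ (hWV y y' hne) _ rfl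
  -- the cocycle on `Y`
  let η : ∀ y y', Γ(Y, W y ⊓ W y') := fun y y' =>
    if h : y = y' then 1 else (Equiv.ofBijective _ (hbij y y' h)).symm (θ y y')
  have hηθ : ∀ y y', (f.appLE (W y ⊓ W y') (U' y ⊓ U' y') (hpre y y')).hom (η y y') = θ y y' := by
    intro y y'
    by_cases h : y = y'
    · subst h
      simp only [η, dif_pos]
      rw [map_one, hθ1]
    · simp only [η, dif_neg h]
      exact (Equiv.ofBijective _ (hbij y y' h)).apply_symm_apply (θ y y')
  have hηc : IsCocycle W η := by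
    intro y y' y''
    by_cases hall : y = y' ∧ y' = y''
    · obtain ⟨rfl, rfl⟩ := hall
      simp only [η, dif_pos, map_one, mul_one]
    · have hT : W y ⊓ W y' ⊓ W y'' ≤ V := by
        by_cases h1 : y = y'
        · have h2 : y' ≠ y'' := fun h2 => hall ⟨h1, h2⟩
          exact (inf_le_inf_right _ inf_le_right).trans (hWV y' y'' h2)
        · exact inf_le_left.trans (hWV y y' h1)
      have hpreT : U' y ⊓ U' y' ⊓ U' y'' ≤ f ⁻¹ᵁ (W y ⊓ W y' ⊓ W y'') := fun _ h => h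
      have hinj := (appLE_bijective_of_isIso_restrict f V _ hT (U' y ⊓ U' y' ⊓ U' y'') rfl).1
      apply hinj
      rw [map_mul, appLE_res_left, appLE_res_left, appLE_res_left]
      have h1 := res_appLE f (inf_le_inf_right (U' y'') inf_le_left :
        U' y ⊓ U' y' ⊓ U' y'' ≤ U' y ⊓ U' y'') (hpre y y'') (η y y'')
      have h2 := res_appLE f (inf_le_left : U' y ⊓ U' y' ⊓ U' y'' ≤ U' y ⊓ U' y') (hpre y y')
        (η y y')
      have h3 := res_appLE f (inf_le_inf_right (U' y'') inf_le_right :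
        U' y ⊓ U' y' ⊓ U' y'' ≤ U' y' ⊓ U' y'') (hpre y' y'') (η y' y'')
      rw [hηθ] at h1 h2 h3
      exact h1.symm.trans ((hθc y y' y'').trans (congrArg₂ (· * ·) h2 h3))
  have hηu : ∀ y, IsUnit (η y y) := fun y => by
    simp only [η, dif_pos]
    exact isUnit_one
  let N : Y.Modules := glueMod W η
  have hN : PicF.IsInvertible N := isInvertible_glueMod hηc hηu hcW
  haveI : N.IsQuasicoherent := QC.qc_of_isInvertible N hN
  refine ⟨N, hN, ?_⟩
  -- bases of the pullback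
  let e'' : ∀ y, Γ((Scheme.Modules.pullback f).obj N, U' y) := fun y =>
    QC.pbSec f N (le_refl (f ⁻¹ᵁ W y)) (glueGen hηc y)
  have he'' : ∀ y, QC.IsBasisOver ((Scheme.Modules.pullback f).obj N) (U' y) (e'' y) := fun y =>
    (isBasisOver_glueGen hηc hηu y).pullback f (le_refl (f ⁻¹ᵁ W y))
  refine nonempty_iso_of_same_transition hU' he'' he θ ?_ (transition_spec he)
  intro y y'
  have h1 := QC.pbSec_res f N (le_refl (f ⁻¹ᵁ W y)) (hpre y y')
    (inf_le_left : U' y ⊓ U' y' ≤ U' y) (inf_le_left : W y ⊓ W y' ≤ W y) (glueGen hηc y)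
  have h2 := QC.pbSec_res f N (le_refl (f ⁻¹ᵁ W y')) (hpre y y')
    (inf_le_right : U' y ⊓ U' y' ≤ U' y') (inf_le_right : W y ⊓ W y' ≤ W y') (glueGen hηc y')
  change mres _ _ (e'' y) = θ y y' • mres _ _ (e'' y')
  change _ = mres _ _ (e'' y) at h1
  change _ = mres _ _ (e'' y') at h2
  rw [← h1, ← h2, glueGen_transition hηc y y', QC.pbSec_smul]
  congr 1
  exact hηθ y y'

end Groth.Agent.H5.Glue
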