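import Mathlib
import Groth.Agent.Lib.Lead.QC.InvEpi
import Groth.Agent.Lib.Lead.QC.AmpleGen
import Groth.Agent.Lib.Lead.QC.EpiLocal
import Groth.Agent.Lib.Lead.QC.Gen

/-! # Local surjectivity of morphisms of modules at a point. -/

set_option autoImplicit false
universe u
open CategoryTheory Limits AlgebraicGeometry TopologicalSpace Opposite

namespace Groth.Agent.H5.Glue

open Groth.Agent.LD Groth.Agent.LD.QC

variable {X : Scheme.{u}}

/-- `p` is locally surjective at `x`. -/
def LocSurjAt {G H : X.Modules} (p : G ⟶ H) (x : X) : Prop :=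
  ∀ (U : X.Opens) (t : Γ(H, U)), x ∈ U → ∃ (W : X.Opens) (hW : W ≤ U), x ∈ W ∧ ∃ g : Γ(G, W),
    p.app W g = H.presheaf.map (homOfLE hW).op t

lemma epi_of_locSurjAt {G H : X.Modules} (p : G ⟶ H) (h : ∀ x, LocSurjAt p x) : Epi p :=
  epi_of_local_lift p (fun U t x hx => h x U t hx)

lemma locSurjAt_of_epi {G H : X.Modules} (p : G ⟶ H) [hp : Epi p] (x : X) : LocSurjAt p x :=
  fun U t hx => exists_local_lift p hp U t x hx

lemma LocSurjAt.comp {G H K : X.Modules} {p : G ⟶ H} {q : H ⟶ K} {x : X}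
    (hp : LocSurjAt p x) (hq : LocSurjAt q x) : LocSurjAt (p ≫ q) x := by
  intro U t hx
  obtain ⟨W, hW, hxW, h, hh⟩ := hq U t hx
  obtain ⟨W', hW', hxW', g, hg⟩ := hp W h hxW
  refine ⟨W', hW'.trans hW, hxW', g, ?_⟩
  change q.app W' (p.app W' g) = _
  rw [hg]
  rw [app_res q hW' h, hh, res_res]

lemma LocSurjAt.of_comp {G' G H : X.Modules} (i : G' ⟶ G) {p : G ⟶ H} {x : X}
    (h : LocSurjAt (i ≫ p) x) : LocSurjAt p x := by
  intro U t hx
  obtain ⟨W, hW, hxW, g, hg⟩ := h U t hx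
  exact ⟨W, hW, hxW, i.app W g, hg⟩

lemma LocSurjAt.tensorMap {G H : X.Modules} {p : G ⟶ H} {x : X} (hp : LocSurjAt p x)
    (M : X.Modules) (hM : PicF.IsInvertible M) : LocSurjAt (KoszTw.tensorMap p (𝟙 M)) x := by
  intro U t hx
  obtain ⟨U', e, hxU', he⟩ := (isInvertible_iff_exists_isBasisOver M).mp hM x
  obtain ⟨h, hh⟩ := (bijective_tmul_of_isBasisOver H M he (U ⊓ U') inf_le_right).2
    ((CohB1.tensorMod H M).presheaf.map (homOfLE (inf_le_left : U ⊓ U' ≤ U)).op t)
  obtain ⟨W, hW, hxW, g, hg⟩ := hp (U ⊓ U') h ⟨hx, hxU'⟩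
  refine ⟨W, hW.trans inf_le_left, hxW,
    SecTwist.tmul G M W g (M.presheaf.map (homOfLE (hW.trans inf_le_right)).op e), ?_⟩
  rw [KoszTw.tensorMap_tmul, hg]
  have h1 := tmul_res H M hW h (M.presheaf.map (homOfLE (inf_le_right : U ⊓ U' ≤ U')).op e)
  rw [res_res] at h1
  have h2 : (CohB1.tensorMod H M).presheaf.map (homOfLE hW).op
      (SecTwist.tmul H M (U ⊓ U') h (M.presheaf.map (homOfLE (inf_le_right : U ⊓ U' ≤ U')).op e)) =
      (CohB1.tensorMod H M).presheaf.map (homOfLE (hW.trans inf_le_left)).op t := by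
    have hh' : SecTwist.tmul H M (U ⊓ U') h
        (M.presheaf.map (homOfLE (inf_le_right : U ⊓ U' ≤ U')).op e) =
        (CohB1.tensorMod H M).presheaf.map (homOfLE (inf_le_left : U ⊓ U' ≤ U)).op t := hh
    rw [hh', res_res]
  exact h1.symm.trans h2

/-- sections generating `F` over an affine `X_s`, twisted and extended to global sections of
`F ⊗ M^N`, give a morphism from a free module locally surjective at the points of `X_s`. -/
theorem locSurjAt_homOfSections (M : X.Modules) (hM : PicF.IsInvertible M) (s : unitMod X ⟶ M)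
    (haff : IsAffineOpen (CohB1.genLocus M s)) (F : X.Modules) [F.IsQuasicoherent] {k : ℕ}
    (t : Fin k → Γ(F, CohB1.genLocus M s))
    (ht : Submodule.span Γ(X, CohB1.genLocus M s) (Set.range t) = ⊤) (N : ℕ)
    (σ : Fin k → Γ(CohB1.tensorMod F (CohB1.tensorPow M N), ⊤))
    (hσ : ∀ j, (CohB1.tensorMod F (CohB1.tensorPow M N)).presheaf.map
      (homOfLE (le_top : CohB1.genLocus M s ≤ ⊤)).op (σ j) =
        SecTwist.twist s N F (CohB1.genLocus M s) (t j))
    (x : X) (hxs : x ∈ CohB1.genLocus M s) :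
    LocSurjAt (homOfSections (CohB1.tensorMod F (CohB1.tensorPow M N)) σ) x := by
  classical
  haveI : M.IsQuasicoherent := qc_of_isInvertible M hM
  intro V g hx
  have hbasis : IsBasisOver (CohB1.tensorPow M N) (CohB1.genLocus M s)
      (SecTwist.pow s N (CohB1.genLocus M s)) := by
    rw [pow_eq_secPow]
    exact (isBasisOver_val_of_le s le_rfl).secPow N
  obtain ⟨g', hg'⟩ := (bijective_tmul_of_isBasisOver F (CohB1.tensorPow M N) hbasis
    (V ⊓ CohB1.genLocus M s) inf_le_right).2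
    ((CohB1.tensorMod F (CohB1.tensorPow M N)).presheaf.map
      (homOfLE (inf_le_left : V ⊓ CohB1.genLocus M s ≤ V)).op g)
  obtain ⟨W, hW, hxW, a, ha⟩ := exists_local_comb F haff t ht (V ⊓ CohB1.genLocus M s)
    inf_le_right g' x ⟨hx, hxs⟩
  have hWV : W ≤ V := hW.trans inf_le_left
  have hWU : W ≤ CohB1.genLocus M s := hW.trans inf_le_right
  refine ⟨W, hWV, hxW,
    ∑ j : Fin k, (Sigma.ι (fun _ : Fin k => unitMod X) j).app W (a j), ?_⟩
  rw [map_sum]
  have h1 : (CohB1.tensorMod F (CohB1.tensorPow M N)).presheaf.map (homOfLE hWV).op g =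
      SecTwist.tmul F (CohB1.tensorPow M N) W (F.presheaf.map (homOfLE hW).op g')
        ((CohB1.tensorPow M N).presheaf.map (homOfLE hWU).op
          (SecTwist.pow s N (CohB1.genLocus M s))) := by
    have h2 := congrArg ((CohB1.tensorMod F (CohB1.tensorPow M N)).presheaf.map (homOfLE hW).op) hg'
    simp only [res_res] at h2
    rw [← h2, tmul_res, res_res]
  rw [h1, ha]
  refine Eq.trans ?_ (tmul_sum_smul_left F (CohB1.tensorPow M N) W a
    (fun j => F.presheaf.map (homOfLE (hW.trans inf_le_right)).op (t j)) _).symm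
  refine Finset.sum_congr rfl fun j _ => ?_
  rw [homOfSections_app_ι]
  have h4 : (CohB1.tensorMod F (CohB1.tensorPow M N)).presheaf.map (homOfLE (le_top : W ≤ ⊤)).op
      (σ j) = (CohB1.tensorMod F (CohB1.tensorPow M N)).presheaf.map (homOfLE hWU).op
        (SecTwist.twist s N F (CohB1.genLocus M s) (t j)) := by
    rw [← hσ j, res_res]
  rw [h4]
  congr 1
  exact tmul_res F (CohB1.tensorPow M N) hWU (t j) (SecTwist.pow s N (CohB1.genLocus M s))

end Groth.Agent.H5.Glue
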