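import Mathlib
import Groth.Agent.Lib.Helper5.Glue.G
import Groth.Agent.Lib.Lead.QC.Gen

/-! # Isomorphism classes of modules trivialised by a cover vs. cohomologous cocycles (S10964). -/

set_option autoImplicit false
universe u
open CategoryTheory Limits AlgebraicGeometry TopologicalSpace Opposite

namespace Groth.Agent.H5.Glue

open Groth.Agent.LD

variable {X : Scheme.{u}} {ι : Type u} {U : ι → X.Opens}

theorem nonempty_iso_iff_cohomologous (hU : iSup U = ⊤) (L L' : X.Modules)
    (s : ∀ i : ι, Γ(L, U i)) (s' : ∀ i : ι, Γ(L', U i))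
    (hs : ∀ i, QC.IsBasisOver L (U i) (s i)) (hs' : ∀ i, QC.IsBasisOver L' (U i) (s' i))
    (η η' : ∀ i j : ι, Γ(X, U i ⊓ U j))
    (hη : ∀ i j : ι, mres L (inf_le_left : U i ⊓ U j ≤ U i) (s i) =
        η i j • mres L (inf_le_right : U i ⊓ U j ≤ U j) (s j))
    (hη' : ∀ i j : ι, mres L' (inf_le_left : U i ⊓ U j ≤ U i) (s' i) =
        η' i j • mres L' (inf_le_right : U i ⊓ U j ≤ U j) (s' j)) :
    Nonempty (L ≅ L') ↔ ∃ u : ∀ i : ι, (Γ(X, U i))ˣ, ∀ i j : ι,
      η' i j * res (inf_le_left : U i ⊓ U j ≤ U i) (u i : Γ(X, U i)) =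
        res (inf_le_right : U i ⊓ U j ≤ U j) (u j : Γ(X, U j)) * η i j := by
  constructor
  · rintro ⟨φ⟩
    choose a ha using fun i => (hs' i).exists_coord (φ.hom.app (U i) (s i))
    choose b hb using fun i => (hs i).exists_coord (φ.inv.app (U i) (s' i))
    have hab : ∀ i, a i * b i = 1 := by
      intro i
      apply (hs i).coord_injective
      have h1 : φ.inv.app (U i) (φ.hom.app (U i) (s i)) = s i := by
        rw [← ConcreteCategory.comp_apply, ← Scheme.Modules.Hom.comp_app, Iso.hom_inv_id]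
        rfl
      rw [ha i, Scheme.Modules.Hom.app_smul, hb i, smul_smul] at h1
      rw [one_smul]
      exact h1
    refine ⟨fun i => ⟨a i, b i, hab i, (mul_comm _ _).trans (hab i)⟩, fun i j => ?_⟩
    change η' i j * res _ (a i) = res _ (a j) * η i j
    apply ((hs' j).mono (inf_le_right : U i ⊓ U j ≤ U j)).coord_injective
    have h1 := congrArg (φ.hom.app (U i ⊓ U j)) (hη i j)
    rw [Scheme.Modules.Hom.app_smul] at h1
    change φ.hom.app (U i ⊓ U j) (L.presheaf.map (homOfLE inf_le_left).op (s i)) =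
      η i j • φ.hom.app (U i ⊓ U j) (L.presheaf.map (homOfLE inf_le_right).op (s j)) at h1
    rw [QC.app_res, QC.app_res, ha i, ha j] at h1
    change mres L' _ (a i • s' i) = η i j • mres L' _ (a j • s' j) at h1
    rw [mres_smul, mres_smul, hη' i j, smul_smul, smul_smul] at h1
    change (η' i j * res _ (a i)) • mres L' _ (s' j) = (res _ (a j) * η i j) • mres L' _ (s' j)
    rw [mul_comm (η' i j), mul_comm (res _ (a j))]
    exact h1
  · rintro ⟨u, hu⟩
    have he'' : ∀ i, QC.IsBasisOver L' (U i) ((u i : Γ(X, U i)) • s' i) :=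
      fun i => ((hs' i).smul_iff _).mpr (u i).isUnit
    refine nonempty_iso_of_same_transition hU hs he'' η hη ?_
    intro i j
    rw [mres_smul, mres_smul, hη' i j, smul_smul, smul_smul, mul_comm, hu i j, mul_comm]

end Groth.Agent.H5.Glue
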