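import Mathlib
import Groth.Agent.Lib.Helper5.Glue.LS
import Groth.Agent.Lib.Lead.QC.AmpleGG

/-! # Ample families: quotients of sums of negative powers. -/

set_option autoImplicit false
universe u
open CategoryTheory Limits AlgebraicGeometry TopologicalSpace Opposite

namespace Groth.Agent.H5.Glue

open Groth.Agent.LD Groth.Agent.LD.QC

variable {X : Scheme.{u}}

/-- a finite coproduct of invertible modules is finite locally free. -/
theorem isFinLocFree_sigma_of_forall_isInvertible {J : Type} [Finite J] (N : J → X.Modules)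
    (hN : ∀ j, PicF.IsInvertible (N j)) : FlatMod.IsFinLocFree (∐ N) := by
  classical
  haveI := Fintype.ofFinite J
  intro x
  choose U e hxU he using fun j => (isInvertible_iff_exists_isBasisOver (N j)).mp (hN j) x
  let V : X.Opens := ⨅ j, U j
  have hxV : x ∈ V := by
    change x ∈ ((⨅ j, U j : X.Opens) : Set X)
    rw [Opens.coe_iInf]
    exact Set.mem_iInter.mpr hxU
  have hVle : ∀ j, V ≤ U j := fun j => iInf_le U j
  refine ⟨V, Fintype.card J, hxV, ⟨?_⟩⟩
  haveI : PreservesColimitsOfSize.{0, 0} (Scheme.Modules.restrictFunctor V.ι) :=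
    (Scheme.Modules.restrictAdjunction V.ι).leftAdjoint_preservesColimits
  refine PreservesCoproduct.iso (Scheme.Modules.restrictFunctor V.ι) N ≪≫ ?_
  exact Sigma.whiskerEquiv (Fintype.equivFin J)
    (fun j => isoOfBasis (N j) V _ ((he j).mono (hVle j)))

variable [CompactSpace X] [QuasiSeparatedSpace X]

/-- the core: for finitely many invertible modules `M a` with sections whose affine loci cover
`X`, every quasi-coherent module of finite type is a quotient of a finite sum of inverses of powers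
of the `M a`. -/
theorem exists_epi_of_family {r : ℕ} (M : Fin r → X.Modules) (hM : ∀ a, PicF.IsInvertible (M a))
    (s : ∀ a, unitMod X ⟶ M a) (haff : ∀ a, IsAffineOpen (CohB1.genLocus (M a) (s a)))
    (hcov : ∀ x : X, ∃ a, x ∈ CohB1.genLocus (M a) (s a))
    (F : X.Modules) [F.IsQuasicoherent] (hFT : F.IsFiniteType) :
    ∃ Npow : Fin r → ℕ, (∀ a, 0 < Npow a) ∧
      ∀ (P : Fin r → X.Modules) (_ : ∀ a, PicF.IsInvertible (P a))
        (_ : ∀ a, CohB1.tensorMod (CohB1.tensorPow (M a) (Npow a)) (P a) ≅ unitMod X),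
        ∃ (k : Fin r → ℕ) (π : (∐ fun i : (Σ a : Fin r, Fin (k a)) => P i.1) ⟶ F), Epi π := by
  classical
  haveI : ∀ a, (M a).IsQuasicoherent := fun a => qc_of_isInvertible (M a) (hM a)
  have hfin : ∀ a, Module.Finite Γ(X, CohB1.genLocus (M a) (s a))
      Γ(F, CohB1.genLocus (M a) (s a)) :=
    fun a => finite_sections_of_isFiniteType F hFT (haff a)
  choose k t ht using fun a => (hfin a).exists_fin
  choose n _ hn using fun (a : Fin r) (j : Fin (k a)) =>
    exists_extension_twist (M a) (hM a) (s a) F (t a j)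
  let Npow : Fin r → ℕ := fun a => (Finset.univ.sup fun j => n a j) + 1
  have hle : ∀ a j, n a j ≤ Npow a := fun a j =>
    (Finset.le_sup (f := fun j => n a j) (Finset.mem_univ j)).trans (Nat.le_succ _)
  choose σ hσ using fun (a : Fin r) (j : Fin (k a)) =>
    extension_of_le (M a) (s a) F (t a j) (n a j) (hn a j) (Npow a) (hle a j)
  refine ⟨Npow, fun a => Nat.succ_pos _, fun P hP ε => ?_⟩
  haveI : ∀ a, (P a).IsQuasicoherent := fun a => qc_of_isInvertible (P a) (hP a)
  haveI : ∀ a, (CohB1.tensorPow (M a) (Npow a)).IsQuasicoherent := fun a =>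
    qc_of_isInvertible _ (isInvertible_tensorPow (hM a) _)
  let q : ∀ a, FlatMod.freeMod X (k a) ⟶ CohB1.tensorMod F (CohB1.tensorPow (M a) (Npow a)) :=
    fun a => homOfSections _ (σ a)
  let α : ∀ a, CohB1.tensorMod (CohB1.tensorMod F (CohB1.tensorPow (M a) (Npow a))) (P a) ≅ F :=
    fun a => tensorAssoc F _ (P a) ≪≫ tensorIso' (Iso.refl F) (ε a) ≪≫ SecTwist.unitorR F
  let p : ∀ a, (∐ fun _ : Fin (k a) => P a) ⟶ F := fun a =>
    sigmaToTensor (P a) (k a) ≫ KoszTw.tensorMap (q a) (𝟙 (P a)) ≫ (α a).hom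
  have hp : ∀ a x, x ∈ CohB1.genLocus (M a) (s a) → LocSurjAt (p a) x := by
    intro a x hx
    haveI := epi_sigmaToTensor (P a) (hP a) (k a)
    refine (locSurjAt_of_epi (sigmaToTensor (P a) (k a)) x).comp ?_
    refine LocSurjAt.comp ?_ (locSurjAt_of_epi (α a).hom x)
    exact (locSurjAt_homOfSections (M a) (hM a) (s a) (haff a) F (t a) (ht a) (Npow a) (σ a)
      (hσ a) x hx).tensorMap (P a) (hP a)
  let J := Σ a : Fin r, Fin (k a)
  let π : (∐ fun i : J => P i.1) ⟶ F :=
    Sigma.desc (fun i : J => Sigma.ι (fun _ : Fin (k i.1) => P i.1) i.2 ≫ p i.1)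
  refine ⟨k, π, ?_⟩
  apply epi_of_locSurjAt
  intro x
  obtain ⟨a, hxa⟩ := hcov x
  let ιa : (∐ fun _ : Fin (k a) => P a) ⟶ (∐ fun i : J => P i.1) :=
    Sigma.desc (fun j => Sigma.ι (fun i : J => P i.1) ⟨a, j⟩)
  have hfac : ιa ≫ π = p a := by
    apply Sigma.hom_ext
    intro j
    rw [Sigma.ι_desc_assoc, Sigma.ι_desc]
  apply LocSurjAt.of_comp ιa
  rw [hfac]
  exact hp a x hxa

end Groth.Agent.H5.Glue
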