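import Mathlib
import Groth.Agent.Lib.Helper5.Glue.Fam
import Groth.Agent.Lib.Helper5.Glue.F
import Groth.Agent.Lib.Lead.QC.AmpleFamily
import Groth.Prelude.Def_PerfAux
import Groth.Prelude.Def_MoreMor

/-! # Resolution property from an ample family (S4270). -/

set_option autoImplicit false
universe u
open CategoryTheory Limits AlgebraicGeometry TopologicalSpace Opposite

namespace Groth.Agent.H5.Glue

open Groth.Agent.LD Groth.Agent.LD.QC

variable {X : Scheme.{u}}

theorem hasResolutionProperty_of_hasAmpleFamily (hX : MoreMor.HasAmpleFamily X) :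
    PerfAux.HasResolutionProperty X := by
  classical
  obtain ⟨hcpt, hfam⟩ := hX
  haveI := hcpt
  choose L n s hL hn hxs haff using hfam
  haveI : QuasiSeparatedSpace X := by
    apply quasiSeparatedSpace_of_genLocus_cover
    intro x
    exact ⟨_, s x, isInvertible_tensorPow (hL x) _, hxs x, haff x⟩
  obtain ⟨t0, ht0⟩ := isCompact_univ.elim_finite_subcover
    (fun x : X => (CohB1.genLocus _ (s x) : Set X)) (fun x => (CohB1.genLocus _ (s x)).2)
    (fun x _ => Set.mem_iUnion.mpr ⟨x, hxs x⟩)
  let e := t0.equivFin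
  intro F hFqc hFft
  haveI : F.IsQuasicoherent := hFqc
  obtain ⟨Npow, -, hN⟩ := exists_epi_of_family
    (fun a : Fin t0.card => CohB1.tensorPow (L (e.symm a).1) (n (e.symm a).1))
    (fun a => isInvertible_tensorPow (hL _) _) (fun a => s (e.symm a).1) (fun a => haff _)
    (by
      intro x
      obtain ⟨y, hy, hxy⟩ := Set.mem_iUnion₂.mp (ht0 (Set.mem_univ x))
      refine ⟨e ⟨y, hy⟩, ?_⟩
      rw [e.symm_apply_apply]
      exact hxy) F hFft
  choose P hP hε using fun a : Fin t0.card => exists_inverse
    (CohB1.tensorPow (CohB1.tensorPow (L (e.symm a).1) (n (e.symm a).1)) (Npow a))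
    (isInvertible_tensorPow (isInvertible_tensorPow (hL _) _) _)
  obtain ⟨k, π, hπ⟩ := hN P hP (fun a => (hε a).some)
  exact ⟨_, π, isFinLocFree_sigma_of_forall_isInvertible _ (fun i => hP i.1), hπ⟩

end Groth.Agent.H5.Glue
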