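import Mathlib
import Groth.Agent.Lib.Helper5.Glue.Fam2
import Groth.Agent.Lib.Lead.QC.AmpleBasis
import Groth.Agent.Lib.Lead.QC.InvInverse
import Groth.Prelude.Def_KSix

/-! # Ample families: quotients of sums of negative powers (S4269). -/

set_option autoImplicit false
universe u
open CategoryTheory Limits AlgebraicGeometry TopologicalSpace Opposite

namespace Groth.Agent.H5.Glue

open Groth.Agent.LD Groth.Agent.LD.QC

variable {X : Scheme.{u}}

theorem exists_epi_inAddL {ι : Type u} (L : ι → X.Modules) (hL : KSix.IsAmpleFamily L)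
    (F : X.Modules) (hF : Coh.IsQCoh F) (hF' : CohB1.IsFT F) :
    ∃ (M : X.Modules) (π : M ⟶ F), KSix.InAddL L M ∧ Epi π := by
  classical
  obtain ⟨hcpt, hqs, hinv, hfam⟩ := hL
  haveI := hcpt
  haveI := hqs
  haveI : F.IsQuasicoherent := hF
  haveI : ∀ i, (L i).IsQuasicoherent := fun i => qc_of_isInvertible _ (hinv i)
  choose i n s hxs haff using hfam
  obtain ⟨t0, ht0⟩ := isCompact_univ.elim_finite_subcover
    (fun x : X => (CohB1.genLocus _ (s x) : Set X)) (fun x => (CohB1.genLocus _ (s x)).2)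
    (fun x _ => Set.mem_iUnion.mpr ⟨x, hxs x⟩)
  let e := t0.equivFin
  obtain ⟨Npow, hNpos, hN⟩ := exists_epi_of_family
    (fun a : Fin t0.card => CohB1.tensorPow (L (i (e.symm a).1)) (n (e.symm a).1 + 1))
    (fun a => isInvertible_tensorPow (hinv _) _) (fun a => s (e.symm a).1) (fun a => haff _)
    (by
      intro x
      obtain ⟨y, hy, hxy⟩ := Set.mem_iUnion₂.mp (ht0 (Set.mem_univ x))
      refine ⟨e ⟨y, hy⟩, ?_⟩
      rw [e.symm_apply_apply]
      exact hxy) F hF'
  choose P hP hε using fun a : Fin t0.card => exists_inverse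
    (CohB1.tensorPow (L (i (e.symm a).1)) (powIdx (n (e.symm a).1 + 1) (Npow a)))
    (isInvertible_tensorPow (hinv _) _)
  obtain ⟨k, π, hπ⟩ := hN P hP (fun a =>
    tensorIso' (powPowIso (L (i (e.symm a).1)) (n (e.symm a).1 + 1) (Npow a)) (Iso.refl _) ≪≫
      (hε a).some)
  let J := Σ a : Fin t0.card, Fin (k a)
  let eJ : J ≃ Fin (Fintype.card J) := Fintype.equivFin J
  let N : Fin (Fintype.card J) → X.Modules := (fun j : J => P j.1) ∘ eJ.symm
  refine ⟨_, π, ⟨Fintype.card J, N, ?_, ⟨?_⟩⟩, hπ⟩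
  · intro c
    refine ⟨i (e.symm (eJ.symm c).1).1, powIdx (n (e.symm (eJ.symm c).1).1 + 1) (Npow (eJ.symm c).1),
      ?_, ⟨tensorCommGen _ _ ≪≫ (hε (eJ.symm c).1).some⟩⟩
    rw [powIdx_eq]
    exact Nat.mul_pos (Nat.succ_pos _) (hNpos _)
  · exact (Sigma.reindex eJ.symm (fun j : J => P j.1)).symm ≪≫ (biproduct.isoCoproduct N).symm

end Groth.Agent.H5.Glue
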