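import Mathlib
import Groth.Agent.Lib.Helper5.Glue.F
import Groth.Agent.Lib.Lead.SC.LocFreeVanish
import Groth.Prelude.Def_PerfAux

/-! # Resolution property from an ample invertible module (S1108). -/

set_option autoImplicit false
universe u
open CategoryTheory Limits AlgebraicGeometry TopologicalSpace Opposite

namespace Groth.Agent.H5.Glue

open Groth.Agent.LD Groth.Agent.LD.QC

variable {X : Scheme.{u}}

theorem hasResolutionProperty_of_isAmple (L : X.Modules) (hL : CohB1.IsAmple L) :
    PerfAux.HasResolutionProperty X := by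
  intro M hMqc hMft
  haveI : M.IsQuasicoherent := hMqc
  haveI : QuasiSeparatedSpace X := SC.quasiSeparatedSpace_of_isAmple L hL
  haveI : L.IsQuasicoherent := qc_of_isInvertible L hL.1
  obtain ⟨n₀, hn₀⟩ := exists_epi_free_of_isAmple L hL M hMft
  obtain ⟨K, q, hq⟩ := hn₀ n₀ le_rfl
  have hN : PicF.IsInvertible (CohB1.tensorPow L n₀) := isInvertible_tensorPow hL.1 n₀
  obtain ⟨N', hN', ⟨ε⟩⟩ := exists_inverse (CohB1.tensorPow L n₀) hN
  haveI : (CohB1.tensorPow L n₀).IsQuasicoherent := qc_of_isInvertible _ hN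
  haveI : N'.IsQuasicoherent := qc_of_isInvertible _ hN'
  obtain ⟨p, hp⟩ := exists_epi_sigma_of_inverse M (CohB1.tensorPow L n₀) N' hN' ε q hq
  exact ⟨_, p, SC.isFinLocFree_sigma_of_isInvertible N' hN' K, hp⟩

end Groth.Agent.H5.Glue
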